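import Mathlib
import Cfsg.Agent.Lib.Subnormal.Basic
import Cfsg.Agent.Lib.Coprime.Action
import Cfsg.Agent.Lib.QuadAct.Basic
import Cfsg.Agent.Lib.Components.Primitive

/-!
# Sylow subgroups of joins of subnormal subgroups

If `A`, `B` are subnormal in `X = A ⊔ B` and `P` is a Sylow `p`-subgroup of `X`, then
`P = (P ⊓ A) ⊔ (P ⊓ B)`.
-/

set_option autoImplicit false
set_option linter.style.haveILetI false
set_option linter.unusedSectionVars false

open scoped Pointwise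

namespace Cfsg.Agent.Lib.PointStab.SylowJoin

open Cfsg.Agent.Lib.Subnormal.Basic
open Cfsg.Agent.Lib.Coprime.Action (IsSylowIn card_eq_card_mul_relIndex)

variable {G : Type*} [Group G] [Finite G] {p : ℕ} [hp : Fact p.Prime]

abbrev NN (A : Subgroup G) : Subgroup G := Subgroup.normalizer (A : Set G)

theorem inf_le_NN (A C : Subgroup G) : NN A ⊓ NN C ≤ NN (A ⊓ C) := by
  intro g hg
  rw [NN, Subgroup.mem_normalizer_iff]
  intro x
  have h1 := Subgroup.mem_normalizer_iff.mp hg.1 x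
  have h2 := Subgroup.mem_normalizer_iff.mp hg.2 x
  simp only [SetLike.mem_coe, Subgroup.mem_inf, h1, h2]

theorem le_NN_NN (A : Subgroup G) : NN A ≤ NN (NN A) := Subgroup.le_normalizer

/-- The Sylow intersection with an invariant subgroup. -/
theorem isSylowIn_inf {P X Y : Subgroup G} (hP : IsSylowIn p P X) (hYX : Y ≤ X)
    (hPY : P ≤ NN Y) : IsSylowIn p (P ⊓ Y) Y := by
  refine ⟨inf_le_right, hP.2.1.to_le inf_le_left, ?_⟩
  have h1 := Cfsg.Agent.Lib.QuadAct.Basic.card_sup_mul_card_inf_of_le_normalizer P Y hPY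
  have h2 : Nat.card Y = Nat.card (P ⊓ Y : Subgroup G) * (P ⊓ Y).relIndex Y :=
    card_eq_card_mul_relIndex inf_le_right
  have h3 : Nat.card (P ⊔ Y : Subgroup G) = Nat.card P * P.relIndex (P ⊔ Y) :=
    card_eq_card_mul_relIndex le_sup_left
  have h4 : (P ⊓ Y).relIndex Y = P.relIndex (P ⊔ Y) := by
    have hpos : 0 < Nat.card (P ⊓ Y : Subgroup G) * Nat.card P :=
      Nat.mul_pos Nat.card_pos Nat.card_pos
    apply Nat.eq_of_mul_eq_mul_left hpos
    rw [h3, h2] at h1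
    nlinarith [h1]
  rw [h4]
  intro hd
  apply hP.2.2
  have h5 := Subgroup.relIndex_mul_relIndex P (P ⊔ Y) X le_sup_left (sup_le hP.1 hYX)
  rw [← h5]
  exact Dvd.dvd.mul_right hd _

/-- The Sylow intersection with a subnormal subgroup. -/
theorem isSylowIn_inf_SN {P X Y : Subgroup G} (hP : IsSylowIn p P X) (hY : SN Y X) :
    IsSylowIn p (P ⊓ Y) Y := by
  induction hY using Relation.ReflTransGen.head_induction_on with
  | refl =>
    rw [inf_eq_left.mpr hP.1]
    exact hP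
  | @head a c h1 _ ih =>
    have h2 := isSylowIn_inf ih h1.1 (ih.1.trans h1.2)
    have h3 : P ⊓ c ⊓ a = P ⊓ a := by
      rw [inf_assoc, inf_eq_right.mpr h1.1]
    rwa [h3] at h2

theorem pow_mul_inj {x y a b : ℕ} (ha : ¬ p ∣ a) (hb : ¬ p ∣ b) (h : p ^ x * a = p ^ y * b) :
    x = y := by
  have hpp := hp.out
  have ha0 : a ≠ 0 := fun h0 => ha (h0 ▸ dvd_zero p)
  have hb0 : b ≠ 0 := fun h0 => hb (h0 ▸ dvd_zero p)
  have h1 : (p ^ x * a).factorization p = (p ^ y * b).factorization p := by rw [h]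
  rw [Nat.factorization_mul (pow_ne_zero _ hpp.ne_zero) ha0,
    Nat.factorization_mul (pow_ne_zero _ hpp.ne_zero) hb0, Finsupp.add_apply, Finsupp.add_apply,
    hpp.factorization_pow, hpp.factorization_pow, Nat.factorization_eq_zero_of_not_dvd ha,
    Nat.factorization_eq_zero_of_not_dvd hb] at h1
  simpa using h1

/-- The factorization of a Sylow intersection for a normalizing pair. -/
theorem inf_sup_eq {P X M B U : Subgroup G} (hP : IsSylowIn p P X) (hUX : U ≤ X)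
    (hMB : M ⊔ B = U) (hPM : P ≤ NN M) (hPB : P ≤ NN B) (hBM : B ≤ NN M) :
    P ⊓ U = (P ⊓ M) ⊔ (P ⊓ B) := by
  have hPU : P ≤ NN U := by
    rw [← hMB]
    intro g hg
    exact Cfsg.Agent.Lib.Subnormal.Basic.mem_normalizer_of_conj_eq (by
      rw [Subgroup.smul_sup, conj_eq_of_mem_normalizer (hPM hg),
        conj_eq_of_mem_normalizer (hPB hg)])
  have hMU : M ≤ U := hMB ▸ le_sup_left
  have hBU : B ≤ U := hMB ▸ le_sup_right
  have hMBn : P ≤ NN (M ⊓ B) := fun g hg => inf_le_NN M B ⟨hPM hg, hPB hg⟩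
  have hsM := isSylowIn_inf hP (hMU.trans hUX) hPM
  have hsB := isSylowIn_inf hP (hBU.trans hUX) hPB
  have hsU := isSylowIn_inf hP hUX hPU
  have hsI := isSylowIn_inf hP (inf_le_left.trans (hMU.trans hUX)) hMBn
  set Q : Subgroup G := (P ⊓ M) ⊔ (P ⊓ B) with hQ
  have hQle : Q ≤ P ⊓ U :=
    sup_le (inf_le_inf_left _ hMU) (inf_le_inf_left _ hBU)
  have hBn : (P ⊓ B) ≤ NN (P ⊓ M) := fun g hg =>
    inf_le_NN P M ⟨Subgroup.le_normalizer hg.1, hPM hg.1⟩
  have e1 := Cfsg.Agent.Lib.QuadAct.Basic.card_sup_mul_card_inf_of_le_normalizer (P ⊓ B) (P ⊓ M) hBn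
  have e2 := Cfsg.Agent.Lib.QuadAct.Basic.card_sup_mul_card_inf_of_le_normalizer B M hBM
  have hQcomm : (P ⊓ B) ⊔ (P ⊓ M) = Q := sup_comm _ _
  have hBMU : B ⊔ M = U := by rw [sup_comm]; exact hMB
  have hI1 : (P ⊓ B) ⊓ (P ⊓ M) = P ⊓ (M ⊓ B) := by
    ext x; simp only [Subgroup.mem_inf]; tauto
  have hI2 : B ⊓ M = M ⊓ B := inf_comm _ _
  rw [hQcomm, hI1] at e1
  rw [hBMU, hI2] at e2
  -- express everything in powers of `p`
  obtain ⟨a, ha⟩ := (IsPGroup.iff_card.mp hsM.2.1)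
  obtain ⟨b, hb⟩ := (IsPGroup.iff_card.mp hsB.2.1)
  obtain ⟨u, hu⟩ := (IsPGroup.iff_card.mp hsU.2.1)
  obtain ⟨i, hi⟩ := (IsPGroup.iff_card.mp hsI.2.1)
  have c1 := card_eq_card_mul_relIndex hsM.1
  have c2 := card_eq_card_mul_relIndex hsB.1
  have c3 := card_eq_card_mul_relIndex hsU.1
  have c4 := card_eq_card_mul_relIndex hsI.1
  have key : u + i = a + b := by
    have : p ^ (u + i) * ((P ⊓ U).relIndex U * (P ⊓ (M ⊓ B)).relIndex (M ⊓ B))
        = p ^ (a + b) * ((P ⊓ M).relIndex M * (P ⊓ B).relIndex B) := by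
      rw [c3, c4, c1, c2, hu, hi, ha, hb] at e2
      rw [pow_add, pow_add]
      nlinarith [e2]
    refine pow_mul_inj (p := p) ?_ ?_ this
    · intro hd
      rcases (Nat.Prime.dvd_mul hp.out).mp hd with h | h
      · exact hsU.2.2 h
      · exact hsI.2.2 h
    · intro hd
      rcases (Nat.Prime.dvd_mul hp.out).mp hd with h | h
      · exact hsM.2.2 h
      · exact hsB.2.2 h
  have hcard : Nat.card (P ⊓ U : Subgroup G) ≤ Nat.card Q := by
    have e3 : Nat.card Q * p ^ i = p ^ u * p ^ i := by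
      rw [hi, ha, hb] at e1
      rw [e1, ← pow_add, ← pow_add, key, add_comm b a]
    have e4 := Nat.eq_of_mul_eq_mul_right (pow_pos hp.out.pos i) e3
    rw [e4, hu]
  exact (Subgroup.eq_of_le_of_card_ge hQle hcard).symm

/-- Bound for a conjugate element in the normalizing situation. -/
theorem mem_sup_of_eq_conj {P X A B : Subgroup G} (hP : IsSylowIn p P X) (hAX : A ≤ X) (hBX : B ≤ X)
    (hPA : P ≤ NN A) (hPB : P ≤ NN B) {y a b : G} (hy : y ∈ P) (ha : a ∈ A) (hb : b ∈ B)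
    (hyab : y = b * a * b⁻¹) : y ∈ (P ⊓ A) ⊔ (P ⊓ B) := by
  set A' : Subgroup G := A ⊓ NN B with hA'
  set B' : Subgroup G := B ⊓ NN A with hB'
  set U : Subgroup G := A' ⊔ B' with hU
  have hUX : U ≤ X := sup_le (inf_le_left.trans hAX) (inf_le_left.trans hBX)
  have h1 : P ≤ NN A' := fun g hg => inf_le_NN A (NN B) ⟨hPA hg, le_NN_NN B (hPB hg)⟩
  have h2 : P ≤ NN B' := fun g hg => inf_le_NN B (NN A) ⟨hPB hg, le_NN_NN A (hPA hg)⟩
  have h3 : B' ≤ NN A' := fun g hg =>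
    inf_le_NN A (NN B) ⟨hg.2, le_NN_NN B (Subgroup.le_normalizer hg.1)⟩
  have key := inf_sup_eq hP hUX rfl h1 h2 h3
  -- the factorization of `y`
  have haN : a ∈ NN B := by
    have : a = b⁻¹ * y * b := by rw [hyab]; group
    rw [this]
    exact (NN B).mul_mem ((NN B).mul_mem (Subgroup.le_normalizer (B.inv_mem hb)) (hPB hy))
      (Subgroup.le_normalizer hb)
  have hβB : a * y⁻¹ ∈ B := by
    have e : a * y⁻¹ = (a * b * a⁻¹) * b⁻¹ := by rw [hyab]; group
    rw [e]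
    exact B.mul_mem ((Subgroup.mem_normalizer_iff.mp haN b).mp hb) (B.inv_mem hb)
  have hβN : a * y⁻¹ ∈ NN A :=
    (NN A).mul_mem (Subgroup.le_normalizer ha) ((NN A).inv_mem (hPA hy))
  have hyU : y ∈ U := by
    have e : y = (a * y⁻¹)⁻¹ * a := by group
    rw [e]
    exact U.mul_mem (U.inv_mem (Subgroup.mem_sup_right ⟨hβB, hβN⟩))
      (Subgroup.mem_sup_left ⟨ha, haN⟩)
  have hyPU : y ∈ P ⊓ U := ⟨hy, hyU⟩
  rw [key] at hyPU
  have hle : (P ⊓ A') ⊔ (P ⊓ B') ≤ (P ⊓ A) ⊔ (P ⊓ B) :=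
    sup_le_sup (inf_le_inf_left _ inf_le_left) (inf_le_inf_left _ inf_le_left)
  exact hle hyPU

theorem SN_bot (X : Subgroup G) : SN ⊥ X :=
  SN.of_le_normalizer bot_le (by
    intro g _
    rw [Subgroup.mem_normalizer_iff]
    intro x
    simp only [SetLike.mem_coe, Subgroup.mem_bot]
    constructor
    · rintro rfl; simp
    · intro h
      have : g * x * g⁻¹ = g * 1 * g⁻¹ := by simpa using h
      simpa using this)

theorem SN_sSup {X : Subgroup G} (S : Set (Subgroup G)) (hS : ∀ Y ∈ S, SN Y X) :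
    SN (sSup S) X := by
  have hf : S.Finite := Set.toFinite S
  induction S, hf using Set.Finite.induction_on with
  | empty => rw [sSup_empty]; exact SN_bot X
  | insert _ _ ih =>
    rw [sSup_insert]
    exact SN.sup (hS _ (Set.mem_insert _ _)) (ih fun Y hY => hS Y (Set.mem_insert_of_mem _ hY))

/-- The pair claim. -/
def PairClaim (p : ℕ) (X : Subgroup G) : Prop :=
  ∀ A B P : Subgroup G, SN A X → SN B X → A ⊔ B = X → IsSylowIn p P X → P ≤ (P ⊓ A) ⊔ (P ⊓ B)

theorem fam_of_pair {X : Subgroup G} (hX : ∀ Z ≤ X, PairClaim p Z) (S : Set (Subgroup G))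
    (hS : ∀ Y ∈ S, SN Y X) (hSX : sSup S = X) (P Q : Subgroup G) (hP : IsSylowIn p P X)
    (hQ : ∀ Y ∈ S, P ⊓ Y ≤ Q) : P ≤ Q := by
  have hf : S.Finite := Set.toFinite S
  induction S, hf using Set.Finite.induction_on generalizing X P with
  | empty =>
    rw [sSup_empty] at hSX
    subst hSX
    exact hP.1.trans bot_le
  | @insert Y S' _ _ ih =>
    rw [sSup_insert] at hSX
    have hYX : SN Y X := hS Y (Set.mem_insert _ _)
    have hS' : ∀ Z ∈ S', SN Z X := fun Z hZ => hS Z (Set.mem_insert_of_mem _ hZ)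
    have hWX : SN (sSup S') X := SN_sSup S' hS'
    have hWle : sSup S' ≤ X := hWX.le
    have h1 := hX X le_rfl Y (sSup S') P hYX hWX hSX hP
    refine h1.trans (sup_le (hQ Y (Set.mem_insert _ _)) ?_)
    refine ih (X := sSup S') (fun Z hZ => hX Z (hZ.trans hWle))
      (fun Z hZ => SN.restrict (hS' Z hZ) (le_sSup hZ) hWle) rfl (P ⊓ sSup S') ?_ ?_
    · exact isSylowIn_inf_SN hP hWX
    · intro Z hZ
      exact le_trans (inf_le_inf_right _ inf_le_left) (hQ Z (Set.mem_insert_of_mem _ hZ))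

/-- A subgroup generated by a family stable under conjugation by `g` is normalized by `g`. -/
theorem mem_NN_sSup (S : Set (Subgroup G)) {g : G} (hS : ∀ Y ∈ S, MulAut.conj g • Y ∈ S) :
    g ∈ NN (sSup S) := by
  apply mem_normalizer_of_conj_eq
  have h1 : sSup S ≤ MulAut.conj g⁻¹ • sSup S := by
    refine sSup_le fun Y hY => ?_
    have h2 := conj_mono (g := g⁻¹) (le_sSup (hS Y hY))
    rwa [conj_inv_conj] at h2
  have h3 := conj_mono (g := g) h1
  rw [conj_conj_inv] at h3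
  exact Subgroup.eq_of_le_of_card_ge h3 (by rw [card_conj])

/-- The family of `C`-conjugates of `A`. -/
def conjFam (C A : Subgroup G) : Set (Subgroup G) := Set.range fun c : C => MulAut.conj (c : G) • A

/-- The join of the `C`-conjugates of `A`. -/
noncomputable def closC (C A : Subgroup G) : Subgroup G := sSup (conjFam C A)

theorem mem_conjFam {C A : Subgroup G} {c : G} (hc : c ∈ C) : MulAut.conj c • A ∈ conjFam C A :=
  ⟨⟨c, hc⟩, rfl⟩

theorem le_closC (C A : Subgroup G) : A ≤ closC C A := by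
  have : MulAut.conj (1 : G) • A ≤ closC C A := le_sSup (mem_conjFam (A := A) C.one_mem)
  simpa using this

theorem le_NN_closC (C A : Subgroup G) : C ≤ NN (closC C A) := by
  intro c hc
  apply mem_NN_sSup
  rintro _ ⟨d, rfl⟩
  have : MulAut.conj c • MulAut.conj (d : G) • A = MulAut.conj (c * d) • A := by
    rw [← mul_smul, ← map_mul]
  rw [this]
  exact mem_conjFam (C.mul_mem hc d.2)

theorem SN_conj_of_mem {A X : Subgroup G} (hA : SN A X) {c : G} (hc : c ∈ X) :
    SN (MulAut.conj c • A) X := by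
  have := hA.conj c
  rwa [conj_eq_of_mem_normalizer (Subgroup.le_normalizer hc)] at this

theorem closC_le_NC {C A X : Subgroup G} (hCX : C ≤ X) : closC C A ≤ NC A X := by
  refine sSup_le ?_
  rintro _ ⟨c, rfl⟩
  have h1 : MulAut.conj (c : G) • A ≤ MulAut.conj (c : G) • NC A X := conj_mono le_NC
  rwa [conj_eq_of_mem_normalizer (le_normalizer_NC (hCX c.2))] at h1

theorem SN_conjFam {C A X : Subgroup G} (hCX : C ≤ X) (hA : SN A X) :
    ∀ Y ∈ conjFam C A, SN Y X := by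
  rintro _ ⟨c, rfl⟩
  exact SN_conj_of_mem hA (hCX c.2)

theorem SN_closC {C A X : Subgroup G} (hCX : C ≤ X) (hA : SN A X) : SN (closC C A) X :=
  SN_sSup _ (SN_conjFam hCX hA)

theorem closC_lt {C A X : Subgroup G} (hCX : C ≤ X) (hA : SN A X) (hAX : A ≠ X) :
    closC C A < X :=
  lt_of_le_of_lt (closC_le_NC hCX) (NC_lt hA hAX)

theorem exists_of_mem_conj {A : Subgroup G} {c y : G} (hy : y ∈ MulAut.conj c • A) :
    ∃ a ∈ A, y = c * a * c⁻¹ :=
  ⟨c⁻¹ * y * c, mem_conj.mp hy, by group⟩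

/-- The invariant case. -/
theorem pair_invariant {X A B P : Subgroup G} (ih : ∀ Z, Z < X → ∀ Z' ≤ Z, PairClaim p Z')
    (hA : SN A X) (hB : SN B X) (hAX : A ≠ X) (hAB : A ⊔ B = X) (hP : IsSylowIn p P X)
    (hPA : P ≤ NN A) (hPB : P ≤ NN B) : P ≤ (P ⊓ A) ⊔ (P ⊓ B) := by
  set Q : Subgroup G := (P ⊓ A) ⊔ (P ⊓ B) with hQ
  have hBX : B ≤ X := hB.le
  have hAX' : A ≤ X := hA.le
  set M : Subgroup G := closC B A with hM
  have hAM : A ≤ M := le_closC _ _
  have hMlt : M < X := closC_lt hBX hA hAX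
  have hXM : X ≤ NN M := by
    rw [← hAB]
    exact sup_le (hAM.trans Subgroup.le_normalizer) (le_NN_closC _ _)
  have hsM : IsSylowIn p (P ⊓ M) M := isSylowIn_inf hP hMlt.le (hP.1.trans hXM)
  have h1 : P ⊓ M ≤ Q := by
    refine fam_of_pair (fun Z hZ => ih M hMlt Z hZ) (conjFam B A)
      (fun Y hY => SN.restrict (SN_conjFam hBX hA Y hY) (le_sSup hY) hMlt.le) rfl (P ⊓ M) Q hsM ?_
    rintro _ ⟨b, rfl⟩ y ⟨⟨hyP, _⟩, hy⟩
    obtain ⟨a, ha, e⟩ := exists_of_mem_conj hy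
    exact mem_sup_of_eq_conj hP hAX' hBX hPA hPB hyP ha b.2 e
  have h2 := inf_sup_eq hP (le_refl X) (show M ⊔ B = X from
    le_antisymm (sup_le hMlt.le hBX) (by rw [← hAB]; exact sup_le_sup_right hAM _))
    (hP.1.trans hXM) hPB (hBX.trans hXM)
  rw [inf_eq_left.mpr hP.1] at h2
  rw [h2]
  exact sup_le h1 le_sup_right

/-- Subgroups of a finite `p`-group are subnormal. -/
theorem SN_of_isPGroup {Q P : Subgroup G} (hQP : Q ≤ P) (hP : IsPGroup p P) : SN Q P := by
  haveI : Group.IsNilpotent P := hP.isNilpotent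
  exact SN_of_isSubnormal_subgroupOf hQP
    (Cfsg.Agent.Lib.Components.Primitive.isSubnormal_of_isNilpotent _)

theorem pair_general {X A B P : Subgroup G} (ih : ∀ Z, Z < X → ∀ Z' ≤ Z, PairClaim p Z')
    (hA : SN A X) (hB : SN B X) (hAX : A ≠ X) (hBX : B ≠ X) (hAB : A ⊔ B = X)
    (hP : IsSylowIn p P X) : P ≤ (P ⊓ A) ⊔ (P ⊓ B) := by
  set Q : Subgroup G := (P ⊓ A) ⊔ (P ⊓ B) with hQ
  have hQP : Q ≤ P := sup_le inf_le_left inf_le_left
  set A' : Subgroup G := closC P A with hA'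
  set B' : Subgroup G := closC P B with hB'
  have hA'lt : A' < X := closC_lt hP.1 hA hAX
  have hB'lt : B' < X := closC_lt hP.1 hB hBX
  have hA'B' : A' ⊔ B' = X :=
    le_antisymm (sup_le hA'lt.le hB'lt.le) (by rw [← hAB]; exact sup_le_sup (le_closC _ _) (le_closC _ _))
  have h1 := pair_invariant ih (SN_closC hP.1 hA) (SN_closC hP.1 hB) hA'lt.ne hA'B' hP
    (le_NN_closC _ _) (le_NN_closC _ _)
  set N₀ : Subgroup G := NC Q P with hN₀
  have hPN₀ : P ≤ NN N₀ := le_normalizer_NC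
  have key : ∀ {C : Subgroup G}, SN C X → P ⊓ C ≤ Q → C ≠ X → P ⊓ closC P C ≤ N₀ := by
    intro C hC hCQ hCX
    have hlt : closC P C < X := closC_lt hP.1 hC hCX
    refine fam_of_pair (fun Z hZ => ih _ hlt Z hZ) (conjFam P C)
      (fun Y hY => SN.restrict (SN_conjFam hP.1 hC Y hY) (le_sSup hY) hlt.le) rfl (P ⊓ closC P C) N₀
      (isSylowIn_inf_SN hP (SN_closC hP.1 hC)) ?_
    rintro _ ⟨u, rfl⟩ y ⟨⟨hyP, _⟩, hy⟩
    obtain ⟨a, ha, e⟩ := exists_of_mem_conj hy
    have haP : a ∈ P := by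
      have : a = (u : G)⁻¹ * y * u := by rw [e]; group
      rw [this]
      exact P.mul_mem (P.mul_mem (P.inv_mem u.2) hyP) u.2
    have haN : a ∈ N₀ := le_NC (hCQ ⟨haP, ha⟩)
    rw [e]
    exact (Subgroup.mem_normalizer_iff.mp (hPN₀ u.2) a).mp haN
  have h2 : P ≤ N₀ := h1.trans (sup_le (key hA le_sup_left hAX) (key hB le_sup_right hBX))
  by_contra hcon
  have hne : Q ≠ P := fun e => hcon (e ▸ le_rfl)
  exact absurd h2 (not_le_of_gt (NC_lt (SN_of_isPGroup hQP hP.2.1) hne))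

theorem pairClaim_all (X : Subgroup G) : PairClaim p X := by
  induction X using WellFoundedLT.induction with
  | ind X ih =>
    intro A B P hA hB hAB hP
    by_cases hAX : A = X
    · subst hAX
      rw [inf_eq_left.mpr hP.1]
      exact le_sup_left
    by_cases hBX : B = X
    · subst hBX
      rw [inf_eq_left.mpr hP.1]
      exact le_sup_right
    exact pair_general (fun Z hZ Z' hZ' => ih Z' (lt_of_le_of_lt hZ' hZ)) hA hB hAX hBX hAB hP

/-- **Sylow subgroups of joins of subnormal subgroups.** -/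
theorem sylow_join {X A B P : Subgroup G} (hA : SN A X) (hB : SN B X) (hAB : A ⊔ B = X)
    (hP : IsSylowIn p P X) : P = (P ⊓ A) ⊔ (P ⊓ B) :=
  le_antisymm (pairClaim_all X A B P hA hB hAB hP) (sup_le inf_le_left inf_le_left)

end Cfsg.Agent.Lib.PointStab.SylowJoin
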