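import Mathlib
import Cfsg.Agent.Lib.CharP.Basic

/-!
# Barycenters of orbits on elementary abelian groups

For a finite group `Γ` acting on a finite abelian group `W` of exponent `p`, we use the product of the
elements of an orbit to transfer fixed points of subgroups of index prime to `p`.
-/

set_option autoImplicit false
set_option linter.style.haveILetI false
set_option linter.unusedSectionVars false

namespace Cfsg.Agent.Lib.PointStab.Bary

open scoped commutatorElement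

section Abstract

variable {W Γ : Type*} [CommGroup W] [Finite W] [Group Γ] [MulDistribMulAction Γ W]
variable {p : ℕ} [hp : Fact p.Prime]

variable (Γ) in
/-- The orbit as a finset. -/
noncomputable def orb (y : W) : Finset W := (Set.toFinite (MulAction.orbit Γ y)).toFinset

theorem mem_orb {y w : W} : w ∈ orb Γ y ↔ ∃ g : Γ, g • y = w := by
  simp [orb, MulAction.mem_orbit_iff]

variable (Γ) in
/-- The product over the orbit. -/
noncomputable def bary (y : W) : W := ∏ w ∈ orb Γ y, w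

theorem smul_bary (g : Γ) (y : W) : g • bary Γ y = bary Γ y := by
  unfold bary
  rw [Finset.smul_prod']
  refine Finset.prod_nbij' (fun w => g • w) (fun w => g⁻¹ • w) ?_ ?_ ?_ ?_ ?_
  · intro w hw
    obtain ⟨h, rfl⟩ := mem_orb.mp hw
    exact mem_orb.mpr ⟨g * h, mul_smul _ _ _⟩
  · intro w hw
    obtain ⟨h, rfl⟩ := mem_orb.mp hw
    exact mem_orb.mpr ⟨g⁻¹ * h, mul_smul _ _ _⟩
  · intro w _; simp
  · intro w _; simp
  · intro w _; rfl

variable (Γ) in
/-- The defect `y ^ m * (bary y)⁻¹` with `m` the orbit length. -/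
noncomputable def phi (y : W) : W := y ^ (orb Γ y).card * (bary Γ y)⁻¹

theorem phi_eq_prod (y : W) : phi Γ y = ∏ w ∈ orb Γ y, (y * w⁻¹) := by
  rw [Finset.prod_mul_distrib, Finset.prod_const, Finset.prod_inv_distrib]
  rfl

theorem phi_mem (E : Subgroup W) {y : W} (hE : ∀ g : Γ, y * (g • y)⁻¹ ∈ E) : phi Γ y ∈ E := by
  rw [phi_eq_prod]
  refine Subgroup.prod_mem _ fun w hw => ?_
  obtain ⟨g, rfl⟩ := mem_orb.mp hw
  exact hE g

theorem card_orb_dvd [Finite Γ] {Γ₀ : Subgroup Γ} {y : W} (hy : ∀ t ∈ Γ₀, t • y = y) :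
    (orb Γ y).card ∣ Γ₀.index := by
  have h1 : (orb Γ y).card = (MulAction.stabilizer Γ y).index := by
    rw [MulAction.index_stabilizer, orb, Set.ncard_eq_toFinset_card]
  rw [h1]
  exact Subgroup.index_dvd_of_le (fun t ht => hy t ht)

theorem smul_of_smul_phi {y : W} (hexp : ∀ w : W, w ^ p = 1) (hcard : ¬ p ∣ (orb Γ y).card) (g : Γ)
    (hg : g • phi Γ y = phi Γ y) : g • y = y := by
  set m := (orb Γ y).card with hm
  have h1 : (g • y) ^ m = y ^ m := by
    have h2 : y ^ m = phi Γ y * bary Γ y := by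
      rw [phi, ← hm]; simp
    rw [← smul_pow', h2, smul_mul', hg, smul_bary]
  set c := g • y * y⁻¹ with hc
  have h3 : c ^ m = 1 := by
    rw [hc, mul_pow, h1, inv_pow, mul_inv_cancel]
  have h4 : c ^ p = 1 := hexp c
  have h5 : orderOf c ∣ Nat.gcd m p := Nat.dvd_gcd (orderOf_dvd_of_pow_eq_one h3)
    (orderOf_dvd_of_pow_eq_one h4)
  have h6 : Nat.gcd m p = 1 := by
    rw [Nat.gcd_comm]
    exact (Nat.Prime.coprime_iff_not_dvd hp.out).mpr hcard
  rw [h6, Nat.dvd_one, orderOf_eq_one_iff] at h5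
  have : g • y = c * y := by rw [hc]; simp
  rw [this, h5, one_mul]

/-- **First transfer lemma.** -/
theorem fix_of_fix_E [Finite Γ] (hexp : ∀ w : W, w ^ p = 1) {Γ₀ : Subgroup Γ} (hidx : ¬ p ∣ Γ₀.index)
    {y : W} (hy : ∀ t ∈ Γ₀, t • y = y) (E : Subgroup W) (hE : ∀ g : Γ, y * (g • y)⁻¹ ∈ E)
    (hfix : ∀ e ∈ E, (∀ t ∈ Γ₀, t • e = e) → ∀ g : Γ, g • e = e) (g : Γ) : g • y = y := by
  have hcard : ¬ p ∣ (orb Γ y).card := fun h => hidx (h.trans (card_orb_dvd hy))
  refine smul_of_smul_phi hexp hcard g ?_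
  refine hfix _ (phi_mem E hE) ?_ g
  intro t ht
  rw [phi, smul_mul', smul_pow', hy t ht, smul_inv', smul_bary]

/-- Translation and equivariance of the defect. -/
theorem smul_phi_of_translate {θ : W ≃* W}
    (h1 : ∀ g : Γ, ∃ g' : Γ, ∀ w, θ (g • w) = g' • θ w)
    (h2 : ∀ g' : Γ, ∃ g : Γ, ∀ w, θ (g • w) = g' • θ w)
    {y c : W} (hc : ∀ g : Γ, g • c = c) (hθ : θ y = y * c) : θ (phi Γ y) = phi Γ y := by
  classical
  -- the orbit of `θ y`
  have e1 : orb Γ (θ y) = (orb Γ y).image θ := by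
    ext w
    simp only [mem_orb, Finset.mem_image]
    constructor
    · rintro ⟨g', rfl⟩
      obtain ⟨g, hg⟩ := h2 g'
      exact ⟨g • y, ⟨g, rfl⟩, hg y⟩
    · rintro ⟨_, ⟨g, rfl⟩, rfl⟩
      obtain ⟨g', hg⟩ := h1 g
      exact ⟨g', (hg y).symm⟩
  have e2 : orb Γ (y * c) = (orb Γ y).image (· * c) := by
    ext w
    simp only [mem_orb, Finset.mem_image]
    constructor
    · rintro ⟨g, rfl⟩
      exact ⟨g • y, ⟨g, rfl⟩, by rw [smul_mul', hc]⟩
    · rintro ⟨_, ⟨g, rfl⟩, rfl⟩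
      exact ⟨g, by rw [smul_mul', hc]⟩
  have hθinj : Function.Injective θ := θ.injective
  have hcinj : Function.Injective (· * c : W → W) := mul_left_injective c
  have c1 : (orb Γ (θ y)).card = (orb Γ y).card := by
    rw [e1, Finset.card_image_of_injective _ hθinj]
  have b1 : bary Γ (θ y) = θ (bary Γ y) := by
    unfold bary
    rw [e1, Finset.prod_image (fun a _ b _ h => hθinj h), map_prod]
  have b2 : bary Γ (y * c) = bary Γ y * c ^ (orb Γ y).card := by
    unfold bary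
    rw [e2, Finset.prod_image (fun a _ b _ h => hcinj h), Finset.prod_mul_distrib, Finset.prod_const]
  have b3 : θ (bary Γ y) = bary Γ y * c ^ (orb Γ y).card := by
    rw [← b1, hθ, b2]
  unfold phi
  rw [map_mul, map_pow, map_inv, hθ, b3, mul_pow]
  rw [mul_inv, mul_assoc]
  congr 1
  rw [mul_comm (bary Γ y)⁻¹, ← mul_assoc, mul_inv_cancel, one_mul]

end Abstract

section Concrete

variable {G : Type*} [Group G] [Finite G] {p : ℕ} [hp : Fact p.Prime]

/-- The conjugation action of a subgroup `D` on a subgroup `Y` which it normalizes. -/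
@[reducible] noncomputable def actOn {Y D : Subgroup G} (hD : D ≤ Subgroup.normalizer (Y : Set G)) :
    MulDistribMulAction D Y :=
  MulDistribMulAction.compHom Y (Y.normalizerMonoidHom.comp (Subgroup.inclusion hD))

/-- The commutative structure on an abelian subgroup. -/
@[reducible] def commOn {Y : Subgroup G} (hab : ∀ a ∈ Y, ∀ b ∈ Y, a * b = b * a) : CommGroup Y :=
  { (inferInstance : Group Y) with
    mul_comm := fun a b => Subtype.ext (hab a a.2 b b.2) }

theorem coe_actOn {Y D : Subgroup G} (hD : D ≤ Subgroup.normalizer (Y : Set G)) (d : D) (y : Y) :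
    ((actOn hD).smul d y : G) = d * y * (d : G)⁻¹ := rfl

/-- **Lemma A.** -/
theorem lemmaA {Y D T₀ E : Subgroup G} (hab : ∀ a ∈ Y, ∀ b ∈ Y, a * b = b * a)
    (hexp : ∀ a ∈ Y, a ^ p = 1) (hD : D ≤ Subgroup.normalizer (Y : Set G)) (hT₀D : T₀ ≤ D)
    (hidx : ¬ p ∣ T₀.relIndex D) {z : G} (hz : z ∈ Y) (hzT : ∀ t ∈ T₀, t * z = z * t) (hEY : E ≤ Y)
    (hE : ∀ d ∈ D, z * (d * z * d⁻¹)⁻¹ ∈ E)
    (hfix : ∀ e ∈ E, (∀ t ∈ T₀, t * e = e * t) → ∀ d ∈ D, d * e = e * d) :
    ∀ d ∈ D, d * z = z * d := by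
  letI : CommGroup Y := commOn hab
  letI : MulDistribMulAction D Y := actOn hD
  have hsm : ∀ (d : D) (y : Y), ((d • y : Y) : G) = d * y * (d : G)⁻¹ := fun _ _ => rfl
  have hconj : ∀ (d : D) (y : Y), d • y = y ↔ (d : G) * y = y * d := by
    intro d y
    rw [Subtype.ext_iff, hsm]
    exact mul_inv_eq_iff_eq_mul
  have key := fix_of_fix_E (Γ := D) (W := Y) (p := p) (fun w => Subtype.ext (by simpa using hexp w w.2))
    (Γ₀ := T₀.subgroupOf D) hidx (y := ⟨z, hz⟩)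
    (fun t ht => (hconj t _).mpr (hzT t ht))
    (E.subgroupOf Y) (fun g => by
      rw [Subgroup.mem_subgroupOf]
      exact hE g g.2)
    (fun e he hte g => by
      rw [hconj]
      refine hfix e (by rwa [Subgroup.mem_subgroupOf] at he) (fun t ht => ?_) g g.2
      have := (hconj ⟨t, hT₀D ht⟩ e).mp (hte ⟨t, hT₀D ht⟩ (by rwa [Subgroup.mem_subgroupOf]))
      exact this)
  intro d hd
  exact (hconj ⟨d, hd⟩ ⟨z, hz⟩).mp (key ⟨d, hd⟩)

/-- **Lemma B.** -/
theorem lemmaB {Y D T₀ R : Subgroup G} (hab : ∀ a ∈ Y, ∀ b ∈ Y, a * b = b * a)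
    (hexp : ∀ a ∈ Y, a ^ p = 1) (hD : D ≤ Subgroup.normalizer (Y : Set G)) (hT₀D : T₀ ≤ D)
    (hidx : ¬ p ∣ T₀.relIndex D) (hR : IsPGroup p R) (hYR : Y ≤ R)
    (hRY : R ≤ Subgroup.normalizer (Y : Set G)) (hRD : R ≤ Subgroup.normalizer (D : Set G))
    (hRT : R ≤ Subgroup.normalizer (T₀ : Set G))
    (hfix : ∀ y ∈ Y, (∀ r ∈ R, r * y = y * r) → ∀ d ∈ D, d * y = y * d) :
    ∀ y ∈ Y, (∀ t ∈ T₀, t * y = y * t) → ∀ d ∈ D, d * y = y * d := by
  have hnorm : ∀ {A : Subgroup G} {r a : G}, r ∈ Subgroup.normalizer (A : Set G) → a ∈ A →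
      r * a * r⁻¹ ∈ A := fun hr ha => (Subgroup.mem_normalizer_iff.mp hr _).mp ha
  have hnorm' : ∀ {A : Subgroup G} {r a : G}, r ∈ Subgroup.normalizer (A : Set G) →
      r * a * r⁻¹ ∈ A → a ∈ A := fun hr ha => (Subgroup.mem_normalizer_iff.mp hr _).mpr ha
  -- the fixed point subgroups
  let W₀ : Subgroup G := Y ⊓ Subgroup.centralizer (T₀ : Set G)
  let W₁ : Subgroup G := Y ⊓ Subgroup.centralizer (D : Set G)
  have mW₀ : ∀ y, y ∈ W₀ ↔ y ∈ Y ∧ ∀ t ∈ T₀, t * y = y * t := by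
    intro y
    simp only [W₀, Subgroup.mem_inf, Subgroup.mem_centralizer_iff, SetLike.mem_coe]
  have mW₁ : ∀ y, y ∈ W₁ ↔ y ∈ Y ∧ ∀ d ∈ D, d * y = y * d := by
    intro y
    simp only [W₁, Subgroup.mem_inf, Subgroup.mem_centralizer_iff, SetLike.mem_coe]
  have hW₁₀ : W₁ ≤ W₀ := by
    intro y hy
    rw [mW₁] at hy
    rw [mW₀]
    exact ⟨hy.1, fun t ht => hy.2 t (hT₀D ht)⟩
  suffices hEq : W₁ = W₀ by
    intro y hy hyT d hd
    have : y ∈ W₁ := hEq ▸ (mW₀ y).mpr ⟨hy, hyT⟩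
    exact ((mW₁ y).mp this).2 d hd
  by_contra hne
  haveI : Group.IsNilpotent R := hR.isNilpotent
  have hNn : (W₀.subgroupOf R).Normal := by
    constructor
    intro n hn g
    rw [Subgroup.mem_subgroupOf] at hn ⊢
    rw [mW₀] at hn ⊢
    refine ⟨by simpa using hnorm (hRY g.2) hn.1, fun t ht => ?_⟩
    have h1 : (g : G)⁻¹ * t * g ∈ T₀ := by
      have := hnorm (r := (g : G)⁻¹) (a := t) ((Subgroup.normalizer (T₀ : Set G)).inv_mem (hRT g.2)) ht
      simpa using this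
    have h2 := hn.2 _ h1
    simp only [Subgroup.coe_mul, InvMemClass.coe_inv]
    calc t * (g * n * (g : G)⁻¹) = g * (((g : G)⁻¹ * t * g) * n) * (g : G)⁻¹ := by group
      _ = g * (n * ((g : G)⁻¹ * t * g)) * (g : G)⁻¹ := by rw [h2]
      _ = _ := by group
  have hSN : W₁.subgroupOf R ≤ W₀.subgroupOf R := Subgroup.comap_mono hW₁₀
  have hWR : W₀ ≤ R := inf_le_left.trans hYR
  have hne' : W₁.subgroupOf R ≠ W₀.subgroupOf R := by
    intro h
    apply hne
    have h1 := congrArg (Subgroup.map R.subtype) h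
    rwa [Subgroup.map_subgroupOf_eq_of_le (hW₁₀.trans hWR), Subgroup.map_subgroupOf_eq_of_le hWR] at h1
  obtain ⟨z, hzN, hzS, hz⟩ := Cfsg.Agent.Lib.CharP.Basic.exists_central_mod _ _ hNn hSN hne'
  rw [Subgroup.mem_subgroupOf] at hzN hzS
  obtain ⟨hzY, hzT⟩ := (mW₀ z).mp hzN
  -- the commutators lie in `W₁`
  have hcomm : ∀ r ∈ R, (z : G) * (r * z * r⁻¹)⁻¹ ∈ W₁ := by
    intro r hr
    have := hz ⟨r, hr⟩
    rw [Subgroup.mem_subgroupOf] at this
    have e : ((⁅z, (⟨r, hr⟩ : R)⁆ : R) : G) = (z : G) * (r * z * r⁻¹)⁻¹ := by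
      simp only [commutatorElement_def, Subgroup.coe_mul, InvMemClass.coe_inv]
      group
    rwa [e] at this
  letI : CommGroup Y := commOn hab
  letI : MulDistribMulAction D Y := actOn hD
  have hsm : ∀ (d : D) (y : Y), ((d • y : Y) : G) = d * y * (d : G)⁻¹ := fun _ _ => rfl
  have hconj : ∀ (d : D) (y : Y), d • y = y ↔ (d : G) * y = y * d := by
    intro d y
    rw [Subtype.ext_iff, hsm]
    exact mul_inv_eq_iff_eq_mul
  set y₀ : Y := ⟨z, hzY⟩ with hy₀
  have hexp' : ∀ w : Y, w ^ p = 1 := fun w => Subtype.ext (by simpa using hexp w w.2)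
  -- `phi` commutes with `R`
  have hphi : ∀ r ∈ R, r * ((phi D y₀ : Y) : G) = (phi D y₀ : Y) * r := by
    intro r hr
    let θ : Y ≃* Y := Y.normalizerMonoidHom ⟨r, hRY hr⟩
    have hθ : ∀ w : Y, ((θ w : Y) : G) = r * w * r⁻¹ := fun _ => rfl
    have hzR : r * z * r⁻¹ ∈ Y := hnorm (hRY hr) hzY
    set c : Y := ⟨(z : G)⁻¹ * (r * z * r⁻¹), Y.mul_mem (Y.inv_mem hzY) hzR⟩ with hc
    have hcW : (c : G) ∈ W₁ := by
      have h1 := W₁.inv_mem (hcomm r hr)
      have e : ((z : G) * (r * z * r⁻¹)⁻¹)⁻¹ = (z : G)⁻¹ * (r * z * r⁻¹) := by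
        rw [mul_inv_rev, inv_inv, hab _ hzR _ (Y.inv_mem hzY)]
      rwa [e] at h1
    have key := smul_phi_of_translate (Γ := D) (W := Y) (θ := θ) (y := y₀) (c := c)
      (fun g => ⟨⟨r * g * r⁻¹, hnorm (hRD hr) g.2⟩, fun w => Subtype.ext (by
        rw [hθ, hsm, hsm, hθ]; simp only; group)⟩)
      (fun g' => ⟨⟨r⁻¹ * g' * r, by
          have := hnorm (r := r⁻¹) (a := g') ((Subgroup.normalizer (D : Set G)).inv_mem (hRD hr)) g'.2
          simpa using this⟩, fun w => Subtype.ext (by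
        rw [hθ, hsm, hsm, hθ]; simp only; group)⟩)
      (fun g => (hconj g c).mpr (((mW₁ _).mp hcW).2 g g.2))
      (Subtype.ext (by
        rw [hθ]
        simp only [hy₀, hc, Subgroup.coe_mul]
        group))
    have h2 : r * ((phi D y₀ : Y) : G) * r⁻¹ = (phi D y₀ : Y) := by
      rw [← hθ, key]
    exact mul_inv_eq_iff_eq_mul.mp h2
  have hphiD := hfix _ (phi D y₀).2 hphi
  have hcard : ¬ p ∣ (orb D y₀).card := fun h =>
    hidx (h.trans (card_orb_dvd (Γ₀ := T₀.subgroupOf D) (fun t ht => (hconj t _).mpr (hzT t ht))))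
  apply hzS
  rw [mW₁]
  refine ⟨hzY, fun d hd => ?_⟩
  have := smul_of_smul_phi hexp' hcard ⟨d, hd⟩ ((hconj _ _).mpr (hphiD d hd))
  exact (hconj ⟨d, hd⟩ y₀).mp this

end Concrete

end Cfsg.Agent.Lib.PointStab.Bary
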