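import Mathlib
import Cfsg.Prelude.Def_LocalEven
import Cfsg.Agent.Lib.Subnormal.Basic
import Cfsg.Agent.Lib.Coprime.Action
import Cfsg.Agent.Lib.CharP.Basic
import Cfsg.Agent.Lib.PointStab.SylowJoin
import Cfsg.Agent.Lib.PointStab.Bary

/-!
# Point stabilizers along a subnormal chain

For a group `H` of local characteristic `p`, with `A` normal in `B` subnormal in `H`, the `p`-elements of `A`
centralizing `Ω₁(Z(T ∩ A))` are the ones centralizing `Ω₁(Z(T ∩ B))`.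
-/

set_option autoImplicit false
set_option linter.style.haveILetI false
set_option linter.unusedSectionVars false

open scoped Pointwise

namespace Cfsg.Agent.Lib.PointStab.Step

open Cfsg Cfsg.Agent.Lib.Subnormal.Basic Cfsg.Agent.Lib.CharP.Basic
open Cfsg.Agent.Lib.Coprime.Action (IsSylowIn le_of_normal_of_isSylowIn)
open Cfsg.Agent.Lib.PointStab.SylowJoin (isSylowIn_inf isSylowIn_inf_SN sylow_join)
open Cfsg.Agent.Lib.PointStab.Bary (lemmaA lemmaB)

variable {G : Type*} [Group G]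

/-- Members of `Ω₁(Z(R))`. -/
abbrev Z₁ (p : ℕ) (R : Subgroup G) : Subgroup G := omegaOne p (R ⊓ Subgroup.centralizer (R : Set G))

theorem mem_Z₁ {p : ℕ} {R : Subgroup G} {x : G} :
    x ∈ Z₁ p R ↔ x ∈ R ∧ (∀ r ∈ R, r * x = x * r) ∧ x ^ p = 1 := by
  have hcomm : ∀ a b : G, a ∈ R ⊓ Subgroup.centralizer (R : Set G) →
      b ∈ R ⊓ Subgroup.centralizer (R : Set G) → a * b = b * a := fun a b ha hb =>
    (Subgroup.mem_centralizer_iff.mp hb.2 a ha.1)
  constructor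
  · intro hx
    have h1 : ∀ y ∈ Z₁ p R, y ∈ R ⊓ Subgroup.centralizer (R : Set G) ∧ y ^ p = 1 := by
      intro y hy
      induction hy using Subgroup.closure_induction with
      | mem y hy => exact hy
      | one => exact ⟨Subgroup.one_mem _, one_pow _⟩
      | mul a b _ _ ha hb =>
        refine ⟨Subgroup.mul_mem _ ha.1 hb.1, ?_⟩
        rw [(show Commute a b from hcomm a b ha.1 hb.1).mul_pow, ha.2, hb.2, one_mul]
      | inv a _ ha =>
        exact ⟨Subgroup.inv_mem _ ha.1, by rw [inv_pow, ha.2, inv_one]⟩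
    obtain ⟨⟨h2, h3⟩, h4⟩ := h1 x hx
    exact ⟨h2, fun r hr => Subgroup.mem_centralizer_iff.mp h3 r hr, h4⟩
  · rintro ⟨h1, h2, h3⟩
    exact Subgroup.subset_closure ⟨⟨h1, Subgroup.mem_centralizer_iff.mpr h2⟩, h3⟩

theorem Z₁_le (p : ℕ) (R : Subgroup G) : Z₁ p R ≤ R := fun _ hx => (mem_Z₁.mp hx).1

theorem Z₁_comm {p : ℕ} {R : Subgroup G} {a b : G} (ha : a ∈ Z₁ p R) (hb : b ∈ Z₁ p R) :
    a * b = b * a := (mem_Z₁.mp hb).2.1 a (mem_Z₁.mp ha).1

theorem Z₁_pow {p : ℕ} {R : Subgroup G} {a : G} (ha : a ∈ Z₁ p R) : a ^ p = 1 := (mem_Z₁.mp ha).2.2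

theorem nrm_of_conj {A : Subgroup G} {g : G} (h : ∀ x ∈ A, g * x * g⁻¹ ∈ A)
    (h' : ∀ x ∈ A, g⁻¹ * x * g ∈ A) : g ∈ Subgroup.normalizer (A : Set G) := by
  rw [Subgroup.mem_normalizer_iff]
  intro x
  refine ⟨h x, fun hx => ?_⟩
  have := h' _ hx
  simpa [mul_assoc] using this

theorem conj_mem {A : Subgroup G} {g x : G} (hg : g ∈ Subgroup.normalizer (A : Set G)) (hx : x ∈ A) :
    g * x * g⁻¹ ∈ A := (Subgroup.mem_normalizer_iff.mp hg x).mp hx

theorem conj_inv_mem {A : Subgroup G} {g x : G} (hg : g ∈ Subgroup.normalizer (A : Set G)) (hx : x ∈ A) :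
    g⁻¹ * x * g ∈ A := by
  have := conj_mem ((Subgroup.normalizer (A : Set G)).inv_mem hg) hx
  simpa using this

theorem nrm_Z₁ {p : ℕ} {R : Subgroup G} {g : G} (hg : g ∈ Subgroup.normalizer (R : Set G)) :
    g ∈ Subgroup.normalizer (Z₁ p R : Set G) := by
  have key : ∀ g : G, g ∈ Subgroup.normalizer (R : Set G) → ∀ x ∈ Z₁ p R, g * x * g⁻¹ ∈ Z₁ p R := by
    intro g hg x hx
    obtain ⟨h1, h2, h3⟩ := mem_Z₁.mp hx
    refine mem_Z₁.mpr ⟨conj_mem hg h1, fun r hr => ?_, ?_⟩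
    · have h4 := h2 _ (conj_inv_mem hg hr)
      calc r * (g * x * g⁻¹) = g * ((g⁻¹ * r * g) * x) * g⁻¹ := by group
        _ = g * (x * (g⁻¹ * r * g)) * g⁻¹ := by rw [h4]
        _ = _ := by group
    · rw [conj_pow, h3]; simp
  refine nrm_of_conj (key g hg) (fun x hx => ?_)
  have := key g⁻¹ ((Subgroup.normalizer (R : Set G)).inv_mem hg) x hx
  simpa using this

theorem nrm_centralizer {S : Subgroup G} {g : G} (hg : g ∈ Subgroup.normalizer (S : Set G)) :
    g ∈ Subgroup.normalizer (Subgroup.centralizer (S : Set G) : Set G) := by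
  have key : ∀ g : G, g ∈ Subgroup.normalizer (S : Set G) → ∀ x ∈ Subgroup.centralizer (S : Set G),
      g * x * g⁻¹ ∈ Subgroup.centralizer (S : Set G) := by
    intro g hg x hx
    rw [Subgroup.mem_centralizer_iff] at hx ⊢
    intro r hr
    have h4 := hx _ (conj_inv_mem hg hr)
    calc r * (g * x * g⁻¹) = g * ((g⁻¹ * r * g) * x) * g⁻¹ := by group
      _ = g * (x * (g⁻¹ * r * g)) * g⁻¹ := by rw [h4]
      _ = _ := by group
  refine nrm_of_conj (key g hg) (fun x hx => ?_)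
  have := key g⁻¹ ((Subgroup.normalizer (S : Set G)).inv_mem hg) x hx
  simpa using this

theorem nrm_inf [Finite G] {A C : Subgroup G} {g : G} (h1 : g ∈ Subgroup.normalizer (A : Set G))
    (h2 : g ∈ Subgroup.normalizer (C : Set G)) : g ∈ Subgroup.normalizer ((A ⊓ C : Subgroup G) : Set G) :=
  Cfsg.Agent.Lib.PointStab.SylowJoin.inf_le_NN A C ⟨h1, h2⟩

/-- A subgroup centralized by `g` is normalized by `g`. -/
theorem nrm_of_comm {S : Subgroup G} {g : G} (hg : ∀ s ∈ S, s * g = g * s) :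
    g ∈ Subgroup.normalizer (S : Set G) := by
  refine nrm_of_conj (fun x hx => ?_) (fun x hx => ?_)
  · rw [← hg x hx]; simpa using hx
  · have : g⁻¹ * x * g = x := by rw [mul_assoc, hg x hx]; simp
    rwa [this]

section Finite

variable [Finite G] {p : ℕ} [hp : Fact p.Prime]

theorem CharPIn.of_SN {X W : Subgroup G} (hX : CharPIn p X) (h : SN W X) : CharPIn p W := by
  induction h using Relation.ReflTransGen.head_induction_on with
  | refl => exact hX
  | @head a c h1 _ ih =>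
    exact CharPIn.of_normal ih h1.1 (fun g hg w hw => conj_mem (h1.2 hg) hw)

theorem isSylowIn_of_le {P X Y : Subgroup G} (hP : IsSylowIn p P X) (h1 : P ≤ Y) (h2 : Y ≤ X) :
    IsSylowIn p P Y := by
  refine ⟨h1, hP.2.1, fun hd => hP.2.2 ?_⟩
  rw [← Subgroup.relIndex_mul_relIndex P Y X h1 h2]
  exact Dvd.dvd.mul_right hd _

theorem OpIn_nrm (X : Subgroup G) : X ≤ Subgroup.normalizer (OpIn p X : Set G) := fun h hh =>
  nrm_of_conj (fun _ hy => OpIn_conj hh hy) (fun y hy => by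
    have := OpIn_conj (X.inv_mem hh) hy
    simpa using this)

theorem Z₁_ne_bot {R : Subgroup G} (hR : IsPGroup p R) (h : R ≠ ⊥) : Z₁ p R ≠ ⊥ := by
  obtain ⟨z, hzR, hzo, hzc⟩ := exists_central_order_p hR h
  intro hbot
  have h1 : z ∈ Z₁ p R := mem_Z₁.mpr ⟨hzR, hzc, by rw [← hzo]; exact pow_orderOf_eq_one z⟩
  rw [hbot, Subgroup.mem_bot] at h1
  rw [h1, orderOf_one] at hzo
  exact hp.out.one_lt.ne hzo

theorem charPIn_normalizer {H : Type*} [Group H] [Finite H] (hH : IsOfLocalCharacteristic p H) {S : Subgroup H}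
    (hS : IsPGroup p S) (h : S ≠ ⊥) : CharPIn p (Subgroup.normalizer (S : Set H)) :=
  charPIn_iff.mpr (hH.2 S hS h)

/-- The group `B ⊓ N(S)` has characteristic `p`. -/
theorem charPIn_inf_normalizer {H : Type*} [Group H] [Finite H] (hH : IsOfLocalCharacteristic p H)
    {B S : Subgroup H} (hB : SN B ⊤) (hS : IsPGroup p S) (h : S ≠ ⊥) :
    CharPIn p (B ⊓ Subgroup.normalizer (S : Set H)) := by
  have h1 := hB.inf (Subgroup.normalizer (S : Set H))
  rw [top_inf_eq] at h1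
  exact CharPIn.of_SN (charPIn_normalizer hH hS h) h1

variable {H : Type*} [Group H] [Finite H]

/-- The forward direction of the step. -/
theorem step_forward (hH : IsOfLocalCharacteristic p H) {A B TB : Subgroup H} (hAB : Nml A B)
    (hB : SN B ⊤) (hT : IsSylowIn p TB B) (hT0 : TB ⊓ A ≠ ⊥) {d : H} (hd : d ∈ A)
    (hdZ : ∀ z ∈ Z₁ p (TB ⊓ A), d * z = z * d) : ∀ z ∈ Z₁ p TB, d * z = z * d := by
  set TA : Subgroup H := TB ⊓ A with hTA
  have hTAp : IsPGroup p TA := hT.2.1.to_le inf_le_left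
  have hTAs : IsSylowIn p TA A := isSylowIn_inf hT hAB.1 (hT.1.trans hAB.2)
  set ZA : Subgroup H := Z₁ p TA with hZA
  have hZAp : IsPGroup p ZA := hTAp.to_le (Z₁_le p TA)
  have hZAne : ZA ≠ ⊥ := Z₁_ne_bot hTAp hT0
  set N : Subgroup H := B ⊓ Subgroup.normalizer (ZA : Set H) with hN
  have hNc : CharPIn p N := charPIn_inf_normalizer hH hB hZAp hZAne
  have hTB_nTA : TB ≤ Subgroup.normalizer (TA : Set H) := fun g hg =>
    nrm_inf (Subgroup.le_normalizer hg) (hAB.2 (hT.1 hg))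
  have hTBN : TB ≤ N := fun g hg => ⟨hT.1 hg, nrm_Z₁ (hTB_nTA hg)⟩
  have hTBs : IsSylowIn p TB N := isSylowIn_of_le hT hTBN inf_le_left
  set Q : Subgroup H := OpIn p N with hQ
  have hQp : IsPGroup p Q := OpIn_isPGroup p N
  have hQT : Q ≤ TB := le_of_normal_of_isSylowIn hTBs (OpIn_le p N) hQp (OpIn_nrm N)
  set Y : Subgroup H := Z₁ p Q with hY
  have hZBY : Z₁ p TB ≤ Y := by
    intro x hx
    obtain ⟨h1, h2, h3⟩ := mem_Z₁.mp hx
    refine mem_Z₁.mpr ⟨?_, fun r hr => h2 r (hQT hr), h3⟩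
    exact hNc x (hTBN h1) (fun y hy => (h2 y (hQT hy)).symm)
  have hZAN : ZA ≤ N := (Z₁_le p TA).trans (inf_le_left.trans hTBN)
  have hZAQ : ZA ≤ Q := le_OpIn hZAN hZAp (fun g hg y hy => conj_mem hg.2 hy)
  have hNY : N ≤ Subgroup.normalizer (Y : Set H) := fun g hg => nrm_Z₁ (OpIn_nrm N hg)
  have hYN : Y ≤ N := (Z₁_le p Q).trans (OpIn_le p N)
  have hYA : ∀ y ∈ Y, ∀ z ∈ ZA, y * z = z * y := fun y hy z hz =>
    ((mem_Z₁.mp hy).2.1 z (hZAQ hz)).symm
  set D : Subgroup H := A ⊓ Subgroup.centralizer (ZA : Set H) with hD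
  have mD : ∀ x, x ∈ D ↔ x ∈ A ∧ ∀ z ∈ ZA, z * x = x * z := by
    intro x
    simp only [hD, Subgroup.mem_inf, Subgroup.mem_centralizer_iff, SetLike.mem_coe]
  have hDN : D ≤ N := fun x hx => by
    obtain ⟨h1, h2⟩ := (mD x).mp hx
    exact ⟨hAB.1 h1, nrm_of_comm h2⟩
  have hTAD : TA ≤ D := fun x hx => (mD x).mpr ⟨hx.2, fun z hz =>
    ((mem_Z₁.mp hz).2.1 x hx).symm⟩
  have hTADs : IsSylowIn p TA D := isSylowIn_of_le hTAs hTAD inf_le_left
  set E : Subgroup H := Y ⊓ A with hE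
  have hEp : IsPGroup p E := (hQp.to_le (Z₁_le p Q)).to_le inf_le_left
  have hED : E ≤ D := fun x hx => (mD x).mpr ⟨hx.2, fun z hz => (hYA x hx.1 z hz).symm⟩
  have hDE : D ≤ Subgroup.normalizer (E : Set H) := fun g hg =>
    nrm_inf (hNY (hDN hg)) (Subgroup.le_normalizer hg.1)
  have hETA : E ≤ TA := le_of_normal_of_isSylowIn hTADs hED hEp hDE
  have hddD : d ∈ D := (mD d).mpr ⟨hd, fun z hz => (hdZ z hz).symm⟩
  intro z hz
  have key := lemmaA (p := p) (Y := Y) (D := D) (T₀ := TA) (E := E)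
    (fun a ha b hb => Z₁_comm ha hb) (fun a ha => Z₁_pow ha)
    (fun g hg => hNY (hDN hg)) hTAD hTADs.2.2 (hZBY hz)
    (fun t ht => (mem_Z₁.mp hz).2.1 t ht.1) inf_le_left
    (fun g hg => ?_) (fun e he hte g hg => ?_) d hddD
  · exact key
  · have hzY := hZBY hz
    have hzB : z ∈ B := hT.1 (Z₁_le p TB hz)
    refine ⟨Y.mul_mem hzY (Y.inv_mem (conj_mem (hNY (hDN hg)) hzY)), ?_⟩
    have e1 : z * (g * z * g⁻¹)⁻¹ = (z * g * z⁻¹) * g⁻¹ := by group
    rw [e1]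
    exact A.mul_mem (conj_mem (hAB.2 hzB) hg.1) (A.inv_mem hg.1)
  · have heZ : e ∈ ZA := mem_Z₁.mpr ⟨hETA he, hte, Z₁_pow he.1⟩
    exact ((mD g).mp hg).2 e heZ |>.symm

/-- The backward direction of the step. -/
theorem step_backward (hH : IsOfLocalCharacteristic p H) {A B TB : Subgroup H} (hAB : Nml A B)
    (hB : SN B ⊤) (hT : IsSylowIn p TB B) (hT0 : TB ⊓ A ≠ ⊥) {d : H} (hd : d ∈ A)
    (hdZ : ∀ z ∈ Z₁ p TB, d * z = z * d) : ∀ z ∈ Z₁ p (TB ⊓ A), d * z = z * d := by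
  set TA : Subgroup H := TB ⊓ A with hTA
  have hTAp : IsPGroup p TA := hT.2.1.to_le inf_le_left
  have hTAs : IsSylowIn p TA A := isSylowIn_inf hT hAB.1 (hT.1.trans hAB.2)
  have hTBne : TB ≠ ⊥ := fun h => hT0 (by rw [hTA, h, bot_inf_eq])
  set ZB : Subgroup H := Z₁ p TB with hZB
  have hZBp : IsPGroup p ZB := hT.2.1.to_le (Z₁_le p TB)
  have hZBne : ZB ≠ ⊥ := Z₁_ne_bot hT.2.1 hTBne
  set N : Subgroup H := B ⊓ Subgroup.normalizer (ZB : Set H) with hN
  have hNc : CharPIn p N := charPIn_inf_normalizer hH hB hZBp hZBne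
  set D : Subgroup H := A ⊓ Subgroup.centralizer (ZB : Set H) with hD
  have mD : ∀ x, x ∈ D ↔ x ∈ A ∧ ∀ z ∈ ZB, z * x = x * z := by
    intro x
    simp only [hD, Subgroup.mem_inf, Subgroup.mem_centralizer_iff, SetLike.mem_coe]
  have hDN : D ≤ N := fun x hx => by
    obtain ⟨h1, h2⟩ := (mD x).mp hx
    exact ⟨hAB.1 h1, nrm_of_comm h2⟩
  have hND : N ≤ Subgroup.normalizer (D : Set H) := fun g hg =>
    nrm_inf (hAB.2 hg.1) (nrm_centralizer hg.2)
  have hDc : CharPIn p D := CharPIn.of_normal hNc hDN (fun g hg w hw => conj_mem (hND hg) hw)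
  have hTAD : TA ≤ D := fun x hx => (mD x).mpr ⟨hx.2, fun z hz =>
    ((mem_Z₁.mp hz).2.1 x hx.1).symm⟩
  have hTADs : IsSylowIn p TA D := isSylowIn_of_le hTAs hTAD inf_le_left
  set Q : Subgroup H := OpIn p D with hQ
  have hQp : IsPGroup p Q := OpIn_isPGroup p D
  have hQT : Q ≤ TA := le_of_normal_of_isSylowIn hTADs (OpIn_le p D) hQp (OpIn_nrm D)
  set Y : Subgroup H := Z₁ p Q with hY
  have hZAY : Z₁ p TA ≤ Y := by
    intro x hx
    obtain ⟨h1, h2, h3⟩ := mem_Z₁.mp hx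
    refine mem_Z₁.mpr ⟨?_, fun r hr => h2 r (hQT hr), h3⟩
    exact hDc x (hTAD h1) (fun y hy => (h2 y (hQT hy)).symm)
  have hTB_D : TB ≤ Subgroup.normalizer (D : Set H) := fun g hg =>
    nrm_inf (hAB.2 (hT.1 hg)) (nrm_centralizer (nrm_Z₁ (Subgroup.le_normalizer hg)))
  have hTB_Q : TB ≤ Subgroup.normalizer (Q : Set H) := fun g hg =>
    nrm_of_conj (fun _ hy => OpIn_conj_of_normalizes (fun w hw => conj_inv_mem (hTB_D hg) hw)
        (fun w hw => conj_mem (hTB_D hg) hw) hy)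
      (fun y hy => by
        have := OpIn_conj_of_normalizes (g := g⁻¹) (W := D) (y := y)
          (fun w hw => by simpa using conj_mem (hTB_D hg) hw)
          (fun w hw => by simpa using conj_inv_mem (hTB_D hg) hw) hy
        simpa using this)
  have hddD : d ∈ D := (mD d).mpr ⟨hd, fun z hz => (hdZ z hz).symm⟩
  intro z hz
  have key := lemmaB (p := p) (Y := Y) (D := D) (T₀ := TA) (R := TB)
    (fun a ha b hb => Z₁_comm ha hb) (fun a ha => Z₁_pow ha)
    (fun g hg => nrm_Z₁ (OpIn_nrm D hg)) hTAD hTADs.2.2 hT.2.1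
    ((Z₁_le p Q).trans (hQT.trans inf_le_left))
    (fun g hg => nrm_Z₁ (hTB_Q hg)) hTB_D
    (fun g hg => nrm_inf (Subgroup.le_normalizer hg) (hAB.2 (hT.1 hg)))
    (fun y hy hyR g hg => ?_) z (hZAY hz)
    (fun t ht => (mem_Z₁.mp hz).2.1 t ht) d hddD
  · exact key
  · have hyZB : y ∈ ZB := mem_Z₁.mpr ⟨(hQT (Z₁_le p Q hy)).1, hyR, Z₁_pow hy⟩
    exact ((mD g).mp hg).2 y hyZB |>.symm

theorem eq_one_of_sylow_bot {A TA : Subgroup H} (hT : IsSylowIn p TA A) (h : TA = ⊥) {x : H}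
    (hx : x ∈ A) {k : ℕ} (hk : orderOf x = p ^ k) : x = 1 := by
  subst h
  have h1 : ¬ p ∣ Nat.card A := by
    have := hT.2.2
    rwa [Subgroup.relIndex_bot_left] at this
  have h2 : orderOf x ∣ Nat.card A := by
    have := orderOf_dvd_natCard (⟨x, hx⟩ : A)
    rwa [Subgroup.orderOf_mk] at this
  rcases Nat.eq_zero_or_pos k with h0 | h0
  · rw [h0, pow_zero, orderOf_eq_one_iff] at hk
    exact hk
  · exact absurd ((dvd_pow_self p h0.ne').trans (hk ▸ h2)) h1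

/-- The step. -/
theorem step (hH : IsOfLocalCharacteristic p H) {A B TB : Subgroup H} (hAB : Nml A B)
    (hB : SN B ⊤) (hT : IsSylowIn p TB B) {x : H} (hx : x ∈ A) {k : ℕ} (hk : orderOf x = p ^ k) :
    (∀ z ∈ Z₁ p (TB ⊓ A), x * z = z * x) ↔ (∀ z ∈ Z₁ p TB, x * z = z * x) := by
  by_cases hT0 : TB ⊓ A = ⊥
  · have hTAs : IsSylowIn p (TB ⊓ A) A := isSylowIn_inf hT hAB.1 (hT.1.trans hAB.2)
    have := eq_one_of_sylow_bot hTAs hT0 hx hk
    subst this
    simp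
  · exact ⟨step_forward hH hAB hB hT hT0 hx, step_backward hH hAB hB hT hT0 hx⟩

/-- The chain. -/
theorem chain (hH : IsOfLocalCharacteristic p H) {T : Subgroup H} (hT : IsSylowIn p T ⊤)
    {A B : Subgroup H} (hAB : SN A B) (hB : SN B ⊤) {x : H} (hx : x ∈ A) {k : ℕ}
    (hk : orderOf x = p ^ k) :
    (∀ z ∈ Z₁ p (T ⊓ A), x * z = z * x) ↔ (∀ z ∈ Z₁ p (T ⊓ B), x * z = z * x) := by
  induction hAB with
  | refl => exact Iff.rfl
  | @tail b c h1 h2 ih =>
    have hb : SN b ⊤ := (SN.of_nml h2).trans hB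
    refine (ih hb).trans ?_
    have hs := isSylowIn_inf_SN hT hB
    have := step hH h2 hB hs (SN.le h1 hx) hk
    have e : T ⊓ c ⊓ b = T ⊓ b := by rw [inf_assoc, inf_eq_right.mpr h2.1]
    rwa [e] at this

theorem conj_mem_closure {X : Set G} {g : G} (hX : ∀ x ∈ X, g * x * g⁻¹ ∈ X) :
    ∀ y ∈ Subgroup.closure X, g * y * g⁻¹ ∈ Subgroup.closure X := by
  intro y hy
  induction hy using Subgroup.closure_induction with
  | mem y hy => exact Subgroup.subset_closure (hX y hy)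
  | one => simp [Subgroup.one_mem]
  | mul a b _ _ ha hb =>
    have e : g * (a * b) * g⁻¹ = (g * a * g⁻¹) * (g * b * g⁻¹) := by group
    rw [e]
    exact Subgroup.mul_mem _ ha hb
  | inv a _ ha =>
    have e : g * a⁻¹ * g⁻¹ = (g * a * g⁻¹)⁻¹ := by group
    rw [e]
    exact Subgroup.inv_mem _ ha

theorem mem_of_SN_of_sylow {Y C S : Subgroup H} (hY : SN Y C) (hS : IsSylowIn p S C) (hSY : S ≤ Y)
    {x : H} (hx : x ∈ C) {k : ℕ} (hk : orderOf x = p ^ k) : x ∈ Y := by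
  revert hSY
  induction hY using Relation.ReflTransGen.head_induction_on with
  | refl => exact fun _ => hx
  | @head a c h1 h2 ih =>
    intro hSa
    have hxc : x ∈ c := ih (hSa.trans h1.1)
    have hSc : IsSylowIn p S c := isSylowIn_of_le hS (hSa.trans h1.1) (SN.le h2)
    have hn : ¬ p ∣ a.relIndex c := fun hd => hSc.2.2 (by
      rw [← Subgroup.relIndex_mul_relIndex S a c hSa h1.1]
      exact Dvd.intro_left _ rfl |>.trans (dvd_of_eq rfl) |> fun h => hd.trans h)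
    haveI hN : (a.subgroupOf c).Normal := Subgroup.normal_subgroupOf_of_le_normalizer h1.2
    have h3 := Subgroup.pow_index_mem (a.subgroupOf c) (⟨x, hxc⟩ : c)
    rw [Subgroup.mem_subgroupOf] at h3
    have h4 : x ^ a.relIndex c ∈ a := by simpa [Subgroup.relIndex] using h3
    have hcop : (a.relIndex c).Coprime (orderOf x) := by
      rw [hk]
      exact ((Nat.Prime.coprime_iff_not_dvd hp.out).mpr hn).symm.pow_right k
    obtain ⟨m, hm⟩ := exists_pow_eq_self_of_coprime hcop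
    rw [← hm]
    exact a.pow_mem h4 m

section Assembly

variable (hH : IsOfLocalCharacteristic p H) {T : Subgroup H} (hT : IsSylowIn p T ⊤)
include hH hT

theorem ptK_le {K L : Subgroup H} (hKL : SN K L) (hL : SN L ⊤) :
    pointStabilizer p K (T ⊓ K) ≤ pointStabilizer p L (T ⊓ L) := by
  refine (Subgroup.closure_le _).mpr ?_
  rintro x ⟨⟨hxK, hxC⟩, k, hk⟩
  refine Subgroup.subset_closure ⟨⟨hKL.le hxK, Subgroup.mem_centralizer_iff.mpr fun z hz => ?_⟩, k, hk⟩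
  exact (((chain hH hT hKL hL hxK hk).mp fun w hw =>
    (Subgroup.mem_centralizer_iff.mp hxC w hw).symm) z hz).symm

theorem inf_le_ptK {K : Subgroup H} : T ⊓ K ≤ pointStabilizer p K (T ⊓ K) := by
  intro y hy
  obtain ⟨k, hk⟩ := (IsPGroup.iff_orderOf.mp (hT.2.1)) ⟨y, hy.1⟩
  refine Subgroup.subset_closure ⟨⟨hy.2, Subgroup.mem_centralizer_iff.mpr fun z hz => ?_⟩, k, ?_⟩
  · exact ((mem_Z₁.mp hz).2.1 y hy).symm
  · rwa [Subgroup.orderOf_mk] at hk

theorem ptK_SN {K L : Subgroup H} (hKL : SN K L) (hL : SN L ⊤) :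
    SN (pointStabilizer p K (T ⊓ K)) (L ⊓ Subgroup.centralizer (Z₁ p (T ⊓ L) : Set H)) := by
  have hK : SN K ⊤ := hKL.trans hL
  set K' : Subgroup H := K ⊓ Subgroup.centralizer (Z₁ p (T ⊓ L) : Set H) with hK'
  refine SN.trans (SN.of_nml ⟨?_, ?_⟩) (hKL.inf _)
  · refine (Subgroup.closure_le _).mpr ?_
    rintro x ⟨⟨hxK, hxC⟩, k, hk⟩
    refine ⟨hxK, Subgroup.mem_centralizer_iff.mpr fun z hz => ?_⟩
    exact (((chain hH hT hKL hL hxK hk).mp fun w hw =>
      (Subgroup.mem_centralizer_iff.mp hxC w hw).symm) z hz).symm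
  · have key : ∀ g ∈ K', ∀ x ∈ {x : H | x ∈ K ⊓ Subgroup.centralizer
        (omegaOne p ((T ⊓ K) ⊓ Subgroup.centralizer ((T ⊓ K : Subgroup H) : Set H)) : Set H) ∧
          ∃ k : ℕ, orderOf x = p ^ k}, g * x * g⁻¹ ∈ {x : H | x ∈ K ⊓ Subgroup.centralizer
        (omegaOne p ((T ⊓ K) ⊓ Subgroup.centralizer ((T ⊓ K : Subgroup H) : Set H)) : Set H) ∧
          ∃ k : ℕ, orderOf x = p ^ k} := by
      rintro g hg x ⟨⟨hxK, hxC⟩, k, hk⟩
      have hcK : g * x * g⁻¹ ∈ K := K.mul_mem (K.mul_mem hg.1 hxK) (K.inv_mem hg.1)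
      have hko : orderOf (g * x * g⁻¹) = p ^ k := by
        have := MulEquiv.orderOf_eq (MulAut.conj g) x
        rw [MulAut.conj_apply] at this
        rw [this, hk]
      have hxL : ∀ z ∈ Z₁ p (T ⊓ L), x * z = z * x := (chain hH hT hKL hL hxK hk).mp fun w hw =>
        (Subgroup.mem_centralizer_iff.mp hxC w hw).symm
      have hgL : ∀ z ∈ Z₁ p (T ⊓ L), z * g = g * z := Subgroup.mem_centralizer_iff.mp hg.2
      have hcL : ∀ z ∈ Z₁ p (T ⊓ L), g * x * g⁻¹ * z = z * (g * x * g⁻¹) := by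
        intro z hz
        have e1 : g⁻¹ * z = z * g⁻¹ := by
          rw [inv_mul_eq_iff_eq_mul, ← mul_assoc, ← hgL z hz, mul_assoc, mul_inv_cancel, mul_one]
        calc g * x * g⁻¹ * z = g * x * (g⁻¹ * z) := by group
          _ = g * x * (z * g⁻¹) := by rw [e1]
          _ = g * (x * z) * g⁻¹ := by group
          _ = g * (z * x) * g⁻¹ := by rw [hxL z hz]
          _ = (g * z) * x * g⁻¹ := by group
          _ = (z * g) * x * g⁻¹ := by rw [hgL z hz]
          _ = _ := by group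
      refine ⟨⟨hcK, Subgroup.mem_centralizer_iff.mpr fun z hz => ?_⟩, k, hko⟩
      exact (((chain hH hT hKL hL hcK hko).mpr hcL) z hz).symm
    intro g hg
    refine nrm_of_conj (conj_mem_closure (key g hg)) ?_
    intro y hy
    have := conj_mem_closure (key g⁻¹ (K'.inv_mem hg)) y hy
    rwa [inv_inv] at this

theorem pt_eq {L₁ L₂ : Subgroup H} (h₁ : SN L₁ ⊤) (h₂ : SN L₂ ⊤) :
    pointStabilizer p (L₁ ⊔ L₂) (T ⊓ (L₁ ⊔ L₂)) =
      pointStabilizer p L₁ (T ⊓ L₁) ⊔ pointStabilizer p L₂ (T ⊓ L₂) := by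
  set L : Subgroup H := L₁ ⊔ L₂ with hLdef
  have hL : SN L ⊤ := SN.sup h₁ h₂
  have hL₁ : SN L₁ L := SN.restrict h₁ le_sup_left le_top
  have hL₂ : SN L₂ L := SN.restrict h₂ le_sup_right le_top
  refine le_antisymm ?_ (sup_le (ptK_le hH hT hL₁ hL) (ptK_le hH hT hL₂ hL))
  refine (Subgroup.closure_le _).mpr ?_
  rintro x ⟨hxC, k, hk⟩
  set C : Subgroup H := L ⊓ Subgroup.centralizer (Z₁ p (T ⊓ L) : Set H) with hC
  have hP₀ := SN.sup (ptK_SN hH hT hL₁ hL) (ptK_SN hH hT hL₂ hL)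
  have hsL : IsSylowIn p (T ⊓ L) L := isSylowIn_inf_SN hT hL
  have hSC : T ⊓ L ≤ C := fun y hy => ⟨hy.2, Subgroup.mem_centralizer_iff.mpr fun z hz =>
    ((mem_Z₁.mp hz).2.1 y hy).symm⟩
  have hsC : IsSylowIn p (T ⊓ L) C := isSylowIn_of_le hsL hSC inf_le_left
  have hSP : T ⊓ L ≤ pointStabilizer p L₁ (T ⊓ L₁) ⊔ pointStabilizer p L₂ (T ⊓ L₂) := by
    rw [sylow_join hL₁ hL₂ rfl hsL]
    refine sup_le_sup ?_ ?_
    · exact (inf_le_inf_right _ inf_le_left).trans (inf_le_ptK hH hT)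
    · exact (inf_le_inf_right _ inf_le_left).trans (inf_le_ptK hH hT)
  exact mem_of_SN_of_sylow hP₀ hsC hSP hxC hk

end Assembly

end Finite

end Cfsg.Agent.Lib.PointStab.Step
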